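import Groth.Agent.H22Alg.FatPoints
import Groth.Agent.H22Alg.IdealPowFam
import Groth.Agent.H28Reg.Boundary
import Groth.Agent.H29RR.BundleTwist
import Groth.Agent.H29Pencil.Trick
import Groth.Agent.H29Omega.ConormalStalk

/-!
# Sections vanishing to high order at closed points
-/

set_option autoImplicit false
set_option linter.style.haveILetI false
set_option linter.unusedSectionVars false
set_option backward.isDefEq.respectTransparency.types false
universe u

open CategoryTheory CategoryTheory.Limits AlgebraicGeometry Opposite TopologicalSpace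
open Groth.Agent.H22Alg.FatPoints
open scoped Pointwise

attribute [local instance 10000] Groth.Agent.H10Coh.hasSheafifyAb Groth.Agent.H10Coh.hasWeakSheafifyAb Groth.Agent.H10Coh.hasExtAb Groth.Agent.H10Coh.enoughInjAb

noncomputable section

namespace Groth.Agent.H27Jets

/-- A product of two-generated ideals. -/
theorem exists_gen_pow {R : Type u} [CommRing R] (x y : R) (j : ℕ) :
    Submodule.span R (Set.range fun i : Fin (j + 1) => x ^ (i : ℕ) * y ^ (j - i)) =
      (Ideal.span {x, y} ^ j : Ideal R) := by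
  refine le_antisymm (Submodule.span_le.2 ?_) ?_
  · rintro _ ⟨i, rfl⟩
    have h := Ideal.mul_mem_mul (Ideal.pow_mem_pow (Ideal.subset_span (Set.mem_insert x {y})) (i : ℕ))
      (Ideal.pow_mem_pow (Ideal.subset_span (Set.mem_insert_of_mem x (Set.mem_singleton y))) (j - i))
    rwa [← pow_add, Nat.add_sub_cancel' (Nat.lt_succ_iff.1 i.2)] at h
  · rw [Ideal.span, Submodule.span_pow, Submodule.span_le]
    intro z hz
    refine Submodule.subset_span ?_
    induction j generalizing z with
    | zero => exact ⟨0, by simpa using hz.symm⟩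
    | succ j ih =>
      rw [pow_succ ({x, y} : Set R) j, Set.mem_mul] at hz
      obtain ⟨a, ha, b, hb, rfl⟩ := hz
      obtain ⟨i, rfl⟩ := ih ha
      rcases hb with rfl | hb
      · refine ⟨i.succ, ?_⟩
        show _ ^ ((i : ℕ) + 1) * y ^ (j + 1 - ((i : ℕ) + 1)) = _
        rw [show j + 1 - ((i : ℕ) + 1) = j - i by omega]; ring
      · rw [Set.mem_singleton_iff] at hb
        subst hb
        refine ⟨i.castSucc, ?_⟩
        show x ^ (i : ℕ) * _ ^ (j + 1 - (i : ℕ)) = _
        rw [show j + 1 - (i : ℕ) = j - i + 1 by omega]; ring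

variable {k : Type u} [Field k] [IsAlgClosed k] {X : Scheme.{u}} [X.Over (Spec (CommRingCat.of k))]
  [IsProper (X ↘ Spec (CommRingCat.of k))]

variable (p : X) (hp : IsClosed ({p} : Set X)) (B : X.IdealSheafData)

/-- The stalk of a step module is spanned over the constants by generators of the ideal. -/
theorem finrank_stk_Qt_le {n : ℕ} (V : X.affineOpens) (hV : p ∈ V.1) (v : Fin n → X.presheaf.stalk p)
    (hv : H28Vert.stalkId B V hV = Submodule.span (X.presheaf.stalk p) (Set.range v)) :
    Module.finrank k (H25Par.Stk k (Qt p hp B) p) ≤ n := by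
  classical
  have hrange : LinearMap.range (H29Omega.idealStalk B p) = Submodule.span (X.presheaf.stalk p) (Set.range v) :=
    (H29Omega.range_idealStalk B p V hV).trans hv
  choose t ht using fun i => (show v i ∈ LinearMap.range (H29Omega.idealStalk B p) from
    hrange ▸ Submodule.subset_span ⟨i, rfl⟩)
  let π := H06Mod.stalkLin (cokernel.π (incl (mul_le_left' B (W4c2seshadripos.pointIdeal p hp)))) p
  let w : Fin n → H25Par.Stk k (Qt p hp B) p := fun i => π (t i)
  have htop : Submodule.span k (Set.range w) = ⊤ := by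
    refine Submodule.eq_top_iff'.2 fun q => ?_
    obtain ⟨U, hU, -, hpU, z, rfl⟩ := exists_lift
      (cokernel.π (incl (mul_le_left' B (W4c2seshadripos.pointIdeal p hp)))) p q (W := ⊤) trivial
    have h1 : H29Omega.idealStalk B p ((ClSub.idealMod B).presheaf.germ U p hpU z) ∈
        Submodule.span (X.presheaf.stalk p) (Set.range v) := hrange ▸ ⟨_, rfl⟩
    obtain ⟨c, hc⟩ := (Submodule.mem_span_range_iff_exists_fun _).1 h1
    have hz : (ClSub.idealMod B).presheaf.germ U p hpU z = ∑ i, c i • t i := by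
      refine H29Omega.idealStalk_injective B p ?_
      simp only [map_sum, map_smul, ht]
      exact hc.symm
    have hq : (Qt p hp B).presheaf.germ U p hpU
        ((cokernel.π (incl (mul_le_left' B (W4c2seshadripos.pointIdeal p hp)))).app U z) =
        ∑ i, c i • π (t i) := by
      rw [← H06Mod.stalkLin_germ, hz]
      simp only [map_sum, map_smul, π]
    rw [hq]
    refine Submodule.sum_mem _ fun i _ => ?_
    obtain ⟨r, hr⟩ := (S14059.resMap_bijective (X ↘ Spec (CommRingCat.of k)) p hp).2 (X.residue p (c i))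
    have hcm : c i - X.presheaf.germ ⊤ p trivial (Coh.toGlobal (X ↘ Spec (CommRingCat.of k)) r) ∈
        IsLocalRing.maximalIdeal (X.presheaf.stalk p) := by
      rw [← IsLocalRing.residue_eq_zero_iff, map_sub, sub_eq_zero]
      exact hr.symm
    have h0 := Qt_smul_eq_zero p hp B _ hcm (π (t i))
    rw [sub_smul, sub_eq_zero] at h0
    rw [h0]
    exact (Submodule.smul_mem _ r (Submodule.subset_span ⟨i, rfl⟩) :
      r • w i ∈ Submodule.span k (Set.range w))
  refine le_trans (le_of_eq ?_) ((finrank_range_le_card (R := k) w).trans_eq (Fintype.card_fin n))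
  rw [Set.finrank, htop, finrank_top]

theorem mono_tensor {A C L : X.Modules} (f : A ⟶ C) [Mono f] (hL : PicF.IsInvertible L) :
    Mono (((DCoh.tensorBi (X := X)).flip.obj L).map f) := by
  have hS : (ShortComplex.mk f (cokernel.π f) (cokernel.condition f)).ShortExact :=
    { exact := ShortComplex.exact_cokernel _ }
  exact (H10Coh.Tw.shortExact_seq hS hL).mono_f

theorem h0_ideal_le_of_le {A C : X.IdealSheafData} (h : A ≤ C) {L : X.Modules} (hL : PicF.IsInvertible L) :
    Module.finrank k (Coh.HH X (CohB1.tensorMod (ClSub.idealMod A) L) 0) ≤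
      Module.finrank k (Coh.HH X (CohB1.tensorMod (ClSub.idealMod C) L) 0) := by
  haveI := H28Int.isNoetherian k (X := X)
  haveI := mono_tensor (incl h) hL
  haveI : Module.Finite k (Coh.HH X (CohB1.tensorMod (ClSub.idealMod C) L) 0) :=
    H10Coh.finite_HH_proper k X _ (H11Ample.isCoh_tensor (H22Alg.IdealPowFam.isCoh_idealMod C) hL) 0
  let φ : Coh.HH X (CohB1.tensorMod (ClSub.idealMod A) L) 0 →ₗ[k] Coh.HH X (CohB1.tensorMod (ClSub.idealMod C) L) 0 :=
    Canon.HHlin k (((DCoh.tensorBi (X := X)).flip.obj L).map (incl h)) 0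
  exact LinearMap.finrank_le_finrank_of_injective (f := φ)
    (H29RR.hhlin_zero_injective (k := k) (((DCoh.tensorBi (X := X)).flip.obj L).map (incl h)))

/-- One step. -/
theorem h0_step {n : ℕ} (V : X.affineOpens) (hV : p ∈ V.1) (v : Fin n → X.presheaf.stalk p)
    (hv : H28Vert.stalkId B V hV = Submodule.span (X.presheaf.stalk p) (Set.range v))
    {L : X.Modules} (hL : PicF.IsInvertible L) :
    Module.finrank k (Coh.HH X (CohB1.tensorMod (ClSub.idealMod B) L) 0) ≤
      Module.finrank k (Coh.HH X
        (CohB1.tensorMod (ClSub.idealMod (B * W4c2seshadripos.pointIdeal p hp)) L) 0) + n := by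
  haveI := H28Int.isNoetherian k (X := X)
  let ι₀ := incl (mul_le_left' B (W4c2seshadripos.pointIdeal p hp))
  have hS : (ShortComplex.mk ι₀ (cokernel.π ι₀) (cokernel.condition ι₀)).ShortExact :=
    ShortComplex.ShortExact.mk' (ShortComplex.exact_cokernel ι₀) inferInstance inferInstance
  have hQ : Coh.IsCoh (Qt p hp B) :=
    H10Coh.isCoh_cokernel ι₀ (H22Alg.IdealPowFam.isCoh_idealMod _).1 (H22Alg.IdealPowFam.isCoh_idealMod _)
  have hS' := H10Coh.Tw.shortExact_seq hS hL
  have h₂ := H10Coh.finite_HH_proper k X _ (H11Ample.isCoh_tensor (H22Alg.IdealPowFam.isCoh_idealMod B) hL) 0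
  have h₃ := H10Coh.finite_HH_proper k X _ (H11Ample.isCoh_tensor hQ hL) 0
  refine (H29Pencil.h0_le_add (k := k) hS' h₂ h₃).trans (Nat.add_le_add_left ?_ _)
  have hsub := support_Qt p hp B
  have hfin : (CohB1.support (Qt p hp B)).Finite := (Set.finite_singleton p).subset hsub
  have hQf := H10Coh.finite_HH_proper k X _ hQ 0
  refine (le_of_eq ((H29RR.finrank_h0_tensor_bundle (k := k) (H22Alg.PB.rank_one_of_isInvertible hL) hfin
    (fun z hz => by obtain rfl := hsub hz; exact hp) hQf).trans (one_mul _))).trans ?_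
  have hb := H25Par.germs_bijective (k := k) (Qt p hp B) (Set.finite_singleton p)
    (fun z hz => by obtain rfl := hz; exact hp) (fun y hy => not_not.1 fun h => hy (hsub h))
  let pr : (∀ y : ({p} : Set X), H25Par.Stk k (Qt p hp B) y.1) →ₗ[k] H25Par.Stk k (Qt p hp B) p :=
    LinearMap.proj (⟨p, rfl⟩ : ({p} : Set X))
  have hpr : Function.Bijective pr := by
    refine ⟨fun f g h => funext fun y => ?_, LinearMap.proj_surjective _⟩
    obtain ⟨y, rfl⟩ := y
    exact h
  exact (((LinearEquiv.ofBijective _ hb).trans (LinearEquiv.ofBijective pr hpr)).finrank_eq.trans_le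
      (finrank_stk_Qt_le p hp B V hV v hv))

/-- Vanishing to order `e` at a point off the previous ones. -/
theorem h0_pow (x y : X.presheaf.stalk p)
    (hxy : IsLocalRing.maximalIdeal (X.presheaf.stalk p) = Ideal.span {x, y})
    (V : X.affineOpens) (hV : p ∈ V.1) (hB : H28Vert.stalkId B V hV = ⊤)
    {L : X.Modules} (hL : PicF.IsInvertible L) (e : ℕ) :
    Module.finrank k (Coh.HH X (CohB1.tensorMod (ClSub.idealMod B) L) 0) ≤
      Module.finrank k (Coh.HH X
        (CohB1.tensorMod (ClSub.idealMod (B * W4c2seshadripos.pointIdeal p hp ^ e)) L) 0) +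
        ∑ j ∈ Finset.range e, (j + 1) := by
  induction e with
  | zero =>
    rw [Finset.sum_range_zero, add_zero, pow_zero, mul_one]
  | succ e ih =>
    refine ih.trans ?_
    rw [Finset.sum_range_succ, pow_succ, ← mul_assoc]
    have h := h0_step (k := k) p hp (B * W4c2seshadripos.pointIdeal p hp ^ e) V hV
      (fun i : Fin (e + 1) => x ^ (i : ℕ) * y ^ (e - i)) ?_ hL
    · omega
    · rw [exists_gen_pow, H28Vert.stalkId, Scheme.IdealSheafData.ideal_mul, Pi.mul_apply, Ideal.map_mul,
        Scheme.IdealSheafData.ideal_pow, Pi.pow_apply, Ideal.map_pow,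
        ← mem_pointIdeal_germ hp V.2 hV, ← hxy]
      change H28Vert.stalkId B V hV * _ = _
      rw [hB, Ideal.top_mul]

/-- Vanishing to order `e` at finitely many closed points costs `e(e+1)/2` conditions at each. -/
theorem h0_prod (s : Finset X) (hs : ∀ z ∈ s, IsClosed ({z} : Set X))
    (htwo : ∀ z ∈ s, ∃ x y : X.presheaf.stalk z,
      IsLocalRing.maximalIdeal (X.presheaf.stalk z) = Ideal.span {x, y})
    {L : X.Modules} (hL : PicF.IsInvertible L) (e : ℕ) :
    Module.finrank k (Coh.HH X L 0) ≤
      Module.finrank k (Coh.HH X (CohB1.tensorMod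
        (ClSub.idealMod (⨅ z : ↥s, W4c2seshadripos.pointIdeal (z : X) (hs z z.2) ^ e)) L) 0) +
        s.card * ∑ j ∈ Finset.range e, (j + 1) := by
  classical
  let I : ↥s → X.IdealSheafData := fun z => W4c2seshadripos.pointIdeal (z : X) (hs z z.2)
  have key : ∀ t : Finset ↥s, Module.finrank k (Coh.HH X L 0) ≤
      Module.finrank k (Coh.HH X (CohB1.tensorMod (ClSub.idealMod (∏ z ∈ t, I z ^ e)) L) 0) +
        t.card * ∑ j ∈ Finset.range e, (j + 1) := by
    intro t
    induction t using Finset.induction with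
    | empty =>
      rw [Finset.prod_empty, Finset.card_empty, zero_mul, add_zero]
      obtain ⟨ι⟩ := H28Reg.nonempty_idealMod_top (X := X)
      exact (H29RR.hhIso (k := k)
        (PicGrp.tensorModIso ι (Iso.refl L) ≪≫ H10Coh.Tw.leftUnitIso L) 0).finrank_eq.ge
    | insert a t ha ih =>
      obtain ⟨x, y, hxy⟩ := htwo a a.2
      obtain ⟨V, hV, haV, -⟩ := exists_isAffineOpen_mem_and_subset (x := (a : X)) (U := (⊤ : X.Opens)) trivial
      have hB : H28Vert.stalkId (∏ z ∈ t, I z ^ e) ⟨V, hV⟩ haV = ⊤ := by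
        rw [H28Vert.stalkId_prod]
        refine (Finset.prod_eq_one fun z hz => ?_).trans Ideal.one_eq_top
        have hne : (a : X) ≠ (z : X) := fun h => ha (Subtype.ext h ▸ hz)
        obtain ⟨W, hW, haW, hWle⟩ := exists_isAffineOpen_mem_and_subset (x := (a : X))
          (U := V ⊓ ⟨({(z : X)} : Set X)ᶜ, (hs z z.2).isOpen_compl⟩) ⟨haV, hne⟩
        rw [← H28Vert.stalkId_of_le (I z) (U := ⟨W, hW⟩) (V := ⟨V, hV⟩) (fun b hb => (hWle hb).1) haW,
          H28Vert.stalkId, H17.Seshadri.ideal_eq_top (I z) ⟨W, hW⟩ fun w hw hw' =>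
            (hWle hw).2 ((H17.Seshadri.mem_support_pointIdeal _ _ w).1 hw'),
          Ideal.map_top, ← Ideal.one_eq_top, one_pow]
      have h := h0_pow (k := k) (a : X) (hs a a.2) (∏ z ∈ t, I z ^ e) x y hxy ⟨V, hV⟩ haV hB hL e
      rw [Finset.prod_insert ha, Finset.card_insert_of_notMem ha, mul_comm (I a ^ e)]
      rw [Nat.add_mul, one_mul]
      change _ ≤ Module.finrank k (Coh.HH X (CohB1.tensorMod (ClSub.idealMod
        (_ * W4c2seshadripos.pointIdeal (a : X) (hs a a.2) ^ e)) L) 0) + _
      omega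
  refine (key Finset.univ).trans ?_
  rw [Finset.card_univ, Fintype.card_coe]
  refine Nat.add_le_add_right (h0_ideal_le_of_le ?_ hL) _
  refine le_iInf fun z => ?_
  rw [← Finset.mul_prod_erase _ _ (Finset.mem_univ z)]
  exact mul_le_left' _ _

end Groth.Agent.H27Jets
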